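import Mathlib
import Cfsg.Agent.Lib.Helper70.HH.S3786Defs2
import Cfsg.Agent.Lib.Helper70.HH.S3786ECalg
import Cfsg.Agent.Lib.Helper70.HH.S3786DimAbsG
import Cfsg.Agent.Lib.Helper70.HH.S3786LTabs
import Cfsg.Agent.Lib.Helper70.HH.S3786W0
import Cfsg.Agent.Lib.Helper46.HH.S3786Cyc
import Cfsg.Agent.Lib.Helper46.HH.S3786Fpf
import Cfsg.Agent.Lib.Helper47.HH.S3786Qm
import Cfsg.Agent.Lib.Helper57.HH.S3786LT
import Cfsg.Agent.Lib.Helper62.HH.S3786CTB
import Cfsg.Agent.Lib.Helper62.HH.S3786QmCard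
import Cfsg.Agent.Lib.Helper62.HH.S3789Indep
import Cfsg.Agent.Lib.Helper75.HH.S3786PieceEx
import Cfsg.Agent.Lib.Helper75.HH.S3786Stab
import Cfsg.Agent.Lib.Helper80.HH.S3786Piece
import Cfsg.Agent.Lib.Helper80.HH.S3786Y
import Cfsg.Agent.Lib.Helper86.HH.S3786CritN
import Cfsg.Agent.Lib.Helper86.HH.S3786Dstar

/-!
# S3786, part 2: assembly of Theorem `ECalg` from the packages (helper70)
-/

set_option autoImplicit false

namespace Cfsg.Agent.Lib.Helper70.HH86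

universe u v w

/-- The abstract local theorem, assembled. -/
theorem ltAbs_full : LTabs.{u, v, w} :=
  ltAbs Cfsg.Agent.Lib.Helper47.HH86.lemQm
    (Cfsg.Agent.Lib.Helper62.HH86.lemQmCard Cfsg.Agent.Lib.Helper47.HH86.lemQm
      (Cfsg.Agent.Lib.Helper62.HH86.lemCTB lemDimAbsG Cfsg.Agent.Lib.Helper62.HH89.lemIndep))
    Cfsg.Agent.Lib.Helper46.HH86.lemCycS

/-- The local theorem, assembled. -/
theorem lt_full : Cfsg.Agent.Lib.Helper70.HH86.LT.{u, v, w} :=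
  Cfsg.Agent.Lib.Helper57.HH86.lt ltAbs_full Cfsg.Agent.Lib.Helper46.HH86.lemFpfQuot
    Cfsg.Agent.Lib.Helper80.HH86.lemCenSub

/-- The stabilizer lemma, assembled. -/
theorem lemStab_full : LemStab.{u, v, w} :=
  Cfsg.Agent.Lib.Helper75.HH86.lemStab Cfsg.Agent.Lib.Helper75.HH86.lemPieceConj
    Cfsg.Agent.Lib.Helper80.HH86.lemPieceIndep

/-- `D*` lies in the Frattini subgroup, assembled. -/
theorem lemDstar_full : LemDstar.{u, v, w} :=
  Cfsg.Agent.Lib.Helper86.HH86.lemDstar Cfsg.Agent.Lib.Helper75.HH86.lemPieceExists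
    Cfsg.Agent.Lib.Helper75.HH86.lemPieceConj Cfsg.Agent.Lib.Helper80.HH86.lemCenSub

/-- Theorem `ECalg` from the last open package. -/
theorem ecAlg_of_pieceComm (hPC : LemPieceComm.{u, v, w}) : ECalg.{u, v, w} :=
  ecAlg Cfsg.Agent.Lib.Helper86.HH86.lemCritN Cfsg.Agent.Lib.Helper80.HH86.lemY lemW0 hPC
    lemDstar_full

end Cfsg.Agent.Lib.Helper70.HH86
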