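import Mathlib
import Cfsg.Agent.Lib.Helper70.HH.S3786Defs
import Cfsg.Agent.Lib.Helper75.HH.S3786Lift
import Cfsg.Agent.Lib.Helper75.HH.S3786Main
import Cfsg.Agent.Lib.Helper1.HH.S3786ThmB
import Cfsg.Agent.Lib.Helper57.HH.S3786Lin
import Cfsg.Agent.Lib.Helper21.HH.S3786EC
import Cfsg.Agent.Lib.Helper21.HH.S3786ModB
import Cfsg.Agent.Lib.Helper47.HH.S3786Key

/-!
# S3786: the Hall–Higman exponent bound from Theorem `ECalg` (helper70)
-/

set_option autoImplicit false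

namespace Cfsg.Agent.Lib.Helper70.HH86

universe u

/-- If the Sylow `p`-subgroups have exponent dividing `p ^ e`, every `p`-element has order
dividing `p ^ e`. -/
theorem expLE_of_sylow {G : Type u} [Group G] [Finite G] {p : ℕ} [Fact p.Prime] (e : ℕ)
    (hexp : ∀ (P : Sylow p G), ∀ x ∈ (P : Subgroup G), x ^ p ^ e = 1) : ExpLE p e G := by
  rintro x ⟨k, hk⟩
  have hx : IsPGroup p (Subgroup.zpowers x) := by
    rintro ⟨y, hy⟩
    obtain ⟨i, rfl⟩ := Subgroup.mem_zpowers_iff.mp hy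
    refine ⟨k, Subtype.ext ?_⟩
    show (x ^ i) ^ p ^ k = 1
    rw [← zpow_natCast, ← zpow_mul, mul_comm, zpow_mul, zpow_natCast, hk, one_zpow]
  obtain ⟨P, hP⟩ := hx.exists_le_sylow
  exact hexp P x (hP (Subgroup.mem_zpowers x))

/-- Part (a) and part (b) from Theorem `ECalg`. -/
theorem mains_of_ecAlg (hE : ECalg.{u, u, 0}) : MainA.{u} ∧ MainB.{u} := by
  have hPL : LemPLift.{u} := Cfsg.Agent.Lib.Helper75.HH86.lemPLift
  have hSQ : LemSylQuot.{u} := Cfsg.Agent.Lib.Helper75.HH86.lemSylQuot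
  have hLin : LinNZ.{u} := Cfsg.Agent.Lib.Helper57.HH86.linNZ
  have hEC : EC.{u, u, 0} := Cfsg.Agent.Lib.Helper21.HH86.ec hE
  have hUC : UpperContra.{u} :=
    Cfsg.Agent.Lib.Helper57.HH86.upperContra Cfsg.Agent.Lib.Helper1.HH86.wtb
  have hMB : ModB.{u, u, 0} := Cfsg.Agent.Lib.Helper21.HH86.modB hEC hUC
  have hKB : KeyB.{u} := Cfsg.Agent.Lib.Helper47.HH86.keyB hLin hMB hPL
  have hKA : KeyA.{u} :=
    Cfsg.Agent.Lib.Helper47.HH86.keyA hLin Cfsg.Agent.Lib.Helper1.HH86.modA hSQ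
  exact ⟨Cfsg.Agent.Lib.Helper75.HH86.mainA hKA hPL hSQ,
    Cfsg.Agent.Lib.Helper75.HH86.mainB hKB hPL⟩

/-- The statement of S3786 from Theorem `ECalg`. -/
theorem s3786_of_ecAlg (hE : ECalg.{u, u, 0}) {G : Type u} [Group G] [Finite G] {p : ℕ}
    [Fact p.Prime] (hp : p ≠ 2) (hG : Cfsg.IsPSolvable p G) (e : ℕ)
    (hexp : ∀ (P : Sylow p G), ∀ x ∈ (P : Subgroup G), x ^ p ^ e = 1) :
    (((¬ ∃ k : ℕ, p = 2 ^ k + 1) ∨ ∀ S : Sylow 2 G, IsMulCommutative (S : Subgroup G)) →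
      Cfsg.PLengthLE p e G) ∧ Cfsg.PLengthLE p (2 * e) G := by
  obtain ⟨hA, hB⟩ := mains_of_ecAlg hE
  have hX : ExpLE p e G := expLE_of_sylow e hexp
  exact ⟨fun h => hA hp hG h e hX, hB hp hG e hX⟩

end Cfsg.Agent.Lib.Helper70.HH86
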