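import Mathlib
import Cfsg.Agent.Lib.Helper70.HH.S3786ECfinal
import Cfsg.Agent.Lib.Helper70.HH.S3786Final
import Cfsg.Agent.Lib.Helper57.HH.S3786PieceComm

/-!
# S3786: everything except package (C6) `LemQS` (helper70)
-/

set_option autoImplicit false

namespace Cfsg.Agent.Lib.Helper70.HH86

universe u v w

/-- Theorem `ECalg` from Lemma Q for sections. -/
theorem ecAlg_of_lemQS (hQS : LemQS.{u}) : ECalg.{u, v, w} :=
  ecAlg_of_pieceComm
    (Cfsg.Agent.Lib.Helper57.HH86.lemPieceComm lemStab_full lt_full hQS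
      Cfsg.Agent.Lib.Helper80.HH86.lemCenSub Cfsg.Agent.Lib.Helper46.HH86.lemFpfQuot)

/-- The statement of S3786 from Lemma Q for sections. -/
theorem s3786_of_lemQS (hQS : LemQS.{u}) {G : Type u} [Group G] [Finite G] {p : ℕ}
    [Fact p.Prime] (hp : p ≠ 2) (hG : Cfsg.IsPSolvable p G) (e : ℕ)
    (hexp : ∀ (P : Sylow p G), ∀ x ∈ (P : Subgroup G), x ^ p ^ e = 1) :
    (((¬ ∃ k : ℕ, p = 2 ^ k + 1) ∨ ∀ S : Sylow 2 G, IsMulCommutative (S : Subgroup G)) →
      Cfsg.PLengthLE p e G) ∧ Cfsg.PLengthLE p (2 * e) G :=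
  s3786_of_ecAlg (ecAlg_of_lemQS hQS) hp hG e hexp

end Cfsg.Agent.Lib.Helper70.HH86
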